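import Mathlib
import Cfsg.Agent.Lib.Helper14.OCls.Defs
import Cfsg.Agent.Lib.Helper14.Spinor
import Cfsg.Agent.Lib.Helper99.Quad

/-!
# OCLS package ANISOUNIQ: anisotropic planes over a finite field are isometric

Any anisotropic plane `(V, Q)` is isometric to the standard binary form
`z₁² + a z₁ z₂ + c z₂²` for every anisotropic pair `(a, c)`.
-/

set_option autoImplicit false

namespace Cfsg.Agent.Lib.Helper8.OCls

open Cfsg.Agent.Lib.Helper14.OCls Module

universe u

section field

variable {F : Type u} [Field F] [Fintype F]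

/-- Characteristic 2: the image of `t ↦ t² + t` has index two. -/
theorem as_add_mem (h2 : (2 : F) = 0) {x y : F} (hx : ∀ t : F, t ^ 2 + t ≠ x)
    (hy : ∀ t : F, t ^ 2 + t ≠ y) : ∃ t : F, t ^ 2 + t = x + y := by
  classical
  have hneg : ∀ z : F, -z = z := fun z => by
    have : z + z = 0 := by linear_combination z * h2
    exact neg_eq_of_add_eq_zero_left this
  let φ : F →+ F :=
    { toFun := fun t => t ^ 2 + t
      map_zero' := by simp
      map_add' := fun s t => by
        show (s + t) ^ 2 + (s + t) = s ^ 2 + s + (t ^ 2 + t)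
        linear_combination s * t * h2 }
  have hφ : ∀ t, φ t = t ^ 2 + t := fun t => rfl
  have hker : (φ.ker : Set F) = {0, 1} := by
    ext t
    simp only [SetLike.mem_coe, AddMonoidHom.mem_ker, hφ, Set.mem_insert_iff,
      Set.mem_singleton_iff]
    constructor
    · intro h
      have h1 : t * (t + 1) = 0 := by linear_combination h
      rcases mul_eq_zero.mp h1 with h3 | h3
      · exact Or.inl h3
      · right
        have : t = -1 := eq_neg_of_add_eq_zero_left h3
        rw [this, hneg]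
    · rintro (rfl | rfl)
      · simp
      · linear_combination h2
  have hkc : Nat.card φ.ker = 2 := by
    have : Nat.card φ.ker = Nat.card ((φ.ker : Set F)) := rfl
    rw [this, hker, Nat.card_coe_set_eq, Set.ncard_pair zero_ne_one]
  have h1 := AddSubgroup.card_mul_index φ.ker
  have h3 := AddSubgroup.card_mul_index φ.range
  rw [AddSubgroup.index_ker, hkc] at h1
  have hpos : 0 < Nat.card φ.range := Nat.card_pos
  have hidx : φ.range.index = 2 := by
    have : Nat.card φ.range * φ.range.index = Nat.card φ.range * 2 := by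
      rw [h3, ← h1, mul_comm]
    exact Nat.eq_of_mul_eq_mul_left hpos this
  have hxr : x ∉ φ.range := by
    rintro ⟨t, ht⟩
    exact hx t ht
  have hyr : y ∉ φ.range := by
    rintro ⟨t, ht⟩
    exact hy t ht
  have := (AddSubgroup.add_mem_iff_of_index_two hidx (a := x) (b := y)).mpr
    ⟨fun h => absurd h hxr, fun h => absurd h hyr⟩
  obtain ⟨t, ht⟩ := this
  exact ⟨t, ht⟩

/-- The field lemma behind the uniqueness of anisotropic binary forms. -/
theorem aniso_field (a c a' c' : F) (h : Aniso a c) (h' : Aniso a' c') :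
    ∃ s u : F, u ≠ 0 ∧ 2 * s + a' * u = a ∧ s ^ 2 + a' * s * u + c' * u ^ 2 = c := by
  classical
  by_cases h2 : (2 : F) = 0
  · -- characteristic two
    have hneg : ∀ z : F, -z = z := fun z => by
      have : z + z = 0 := by linear_combination z * h2
      exact neg_eq_of_add_eq_zero_left this
    have hchar : CharP F 2 := by
      refine CharTwo.of_one_ne_zero_of_two_eq_zero one_ne_zero ?_
      exact_mod_cast h2
    have hsq : ∀ z : F, ∃ e : F, e ^ 2 = z := by
      intro z
      have := (frobenius_inj F 2)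
      have hsurj : Function.Surjective (frobenius F 2) :=
        Finite.injective_iff_surjective.mp (frobenius_inj F 2)
      obtain ⟨e, he⟩ := hsurj z
      exact ⟨e, he⟩
    have hne : ∀ a₀ c₀ : F, Aniso a₀ c₀ → a₀ ≠ 0 := by
      intro a₀ c₀ h₀ ha
      obtain ⟨e, he⟩ := hsq c₀
      have := (h₀ e 1 (by rw [ha, he]; linear_combination c₀ * h2)).2
      exact one_ne_zero this
    have hnr : ∀ a₀ c₀ : F, Aniso a₀ c₀ → ∀ t : F, t ^ 2 + t ≠ c₀ / a₀ ^ 2 := by
      intro a₀ c₀ h₀ t ht
      have ha₀ := hne a₀ c₀ h₀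
      have hc : c₀ = a₀ ^ 2 * (t ^ 2 + t) := by
        rw [ht]; field_simp
      have := (h₀ (a₀ * t) 1 (by rw [hc]; linear_combination a₀ ^ 2 * (t ^ 2 + t) * h2)).2
      exact one_ne_zero this
    have ha := hne a c h
    have ha' := hne a' c' h'
    obtain ⟨t, ht⟩ := as_add_mem h2 (hnr a c h) (hnr a' c' h')
    refine ⟨a * t, a / a', div_ne_zero ha ha', ?_, ?_⟩
    · have e0 : a' * (a / a') = a := by field_simp
      rw [e0, h2, zero_mul, zero_add]
    · have e1 : a' * (a * t) * (a / a') = a ^ 2 * t := by field_simp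
      have e2 : c' * (a / a') ^ 2 = a ^ 2 * (c' / a' ^ 2) := by field_simp
      have e3 : c = a ^ 2 * (c / a ^ 2) := by field_simp
      rw [e1, e2]
      have : (a * t) ^ 2 + a ^ 2 * t + a ^ 2 * (c' / a' ^ 2)
          = a ^ 2 * (c / a ^ 2) + a ^ 2 * (c' / a' ^ 2) * 2 := by
        linear_combination a ^ 2 * ht
      rw [this, h2, mul_zero, add_zero, ← e3]
  · -- odd characteristic
    have h4 : (4 : F) ≠ 0 := by
      have : (4 : F) = 2 * 2 := by norm_num
      rw [this]
      exact mul_ne_zero h2 h2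
    have hns : ∀ a₀ c₀ : F, Aniso a₀ c₀ → ¬ IsSquare (a₀ ^ 2 - 4 * c₀) := by
      rintro a₀ c₀ h₀ ⟨d, hd⟩
      have := (h₀ (d - a₀) 2 (by linear_combination -hd)).2
      exact h2 this
    have hD := hns a c h
    have hD' := hns a' c' h'
    have hD'0 : a' ^ 2 - 4 * c' ≠ 0 := fun h0 => hD' ⟨0, by rw [h0]; ring⟩
    have hD0 : a ^ 2 - 4 * c ≠ 0 := fun h0 => hD ⟨0, by rw [h0]; ring⟩
    obtain ⟨w, hw⟩ := Cfsg.Agent.Lib.Helper14.isSquare_mul_of_not_isSquare hD hD'
    -- u = w / D'
    have hw0 : w ≠ 0 := by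
      rintro rfl
      rw [mul_zero] at hw
      exact (mul_ne_zero hD0 hD'0) hw
    refine ⟨(a - a' * (w / (a' ^ 2 - 4 * c'))) / 2, w / (a' ^ 2 - 4 * c'),
      div_ne_zero hw0 hD'0, ?_, ?_⟩
    · field_simp
      ring
    · have hu : (w / (a' ^ 2 - 4 * c')) ^ 2 * (a' ^ 2 - 4 * c') = a ^ 2 - 4 * c := by
        field_simp
        linear_combination -hw
      have h4c : 4 * ((((a - a' * (w / (a' ^ 2 - 4 * c'))) / 2) ^ 2
          + a' * ((a - a' * (w / (a' ^ 2 - 4 * c'))) / 2) * (w / (a' ^ 2 - 4 * c'))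
          + c' * (w / (a' ^ 2 - 4 * c')) ^ 2) - c) = 0 := by
        set u := w / (a' ^ 2 - 4 * c') with hu_def
        have : 4 * ((((a - a' * u) / 2) ^ 2 + a' * ((a - a' * u) / 2) * u + c' * u ^ 2) - c)
            = a ^ 2 - 4 * c - u ^ 2 * (a' ^ 2 - 4 * c') := by
          field_simp
          ring
        rw [this, hu, sub_self]
      have := (mul_eq_zero.mp h4c).resolve_left h4
      exact sub_eq_zero.mp this

end field

section main

variable {F : Type u} [Field F] {V : Type u} [AddCommGroup V] [Module F V]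

/-- The value of a quadratic form on a combination of two vectors. -/
theorem quad_two (Q : QuadraticForm F V) (x y : V) (z₁ z₂ : F) :
    Q (z₁ • x + z₂ • y) = z₁ ^ 2 * Q x + z₁ * z₂ * QuadraticMap.polar Q x y + z₂ ^ 2 * Q y := by
  have h : Q (z₁ • x + z₂ • y) = Q (z₁ • x) + Q (z₂ • y)
      + QuadraticMap.polar Q (z₁ • x) (z₂ • y) := QuadraticMap.map_add Q _ _
  rw [h, QuadraticMap.map_smul, QuadraticMap.map_smul, QuadraticMap.polar_smul_left,
    QuadraticMap.polar_smul_right]
  simp only [smul_eq_mul]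
  ring

end main

/-- **Package ANISOUNIQ.** -/
theorem pkgAnisoUnique : PkgAnisoUnique.{u} := by
  intro F _ _ V _ _ _ Q hQ hdim haniso a c hac
  classical
  -- a vector with `Q x = 1`
  obtain ⟨x, -, hx⟩ := Cfsg.Agent.Lib.Helper99.exists_repr Q ⊤
    (by rw [finrank_top, hdim]) (fun y _ hy => haniso y hy) 1
  have hx0 : x ≠ 0 := by
    rintro rfl
    rw [map_zero] at hx
    exact zero_ne_one hx
  -- a second vector
  obtain ⟨y, hy⟩ : ∃ y : V, y ∉ Submodule.span F {x} := by
    by_contra hcon
    push_neg at hcon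
    have htop : Submodule.span F {x} = ⊤ := by
      rw [eq_top_iff]
      intro y _
      exact hcon y
    have h1 := finrank_span_singleton (K := F) hx0
    rw [htop, finrank_top, hdim] at h1
    omega
  have hli : ∀ z₁ z₂ : F, z₁ • x + z₂ • y = 0 → z₁ = 0 ∧ z₂ = 0 := by
    intro z₁ z₂ hz
    have hz2 : z₂ = 0 := by
      by_contra hne
      apply hy
      have : y = (-z₂⁻¹ * z₁) • x := by
        have h1 : z₂ • y = -(z₁ • x) := eq_neg_of_add_eq_zero_right hz
        have h2 : y = z₂⁻¹ • (z₂ • y) := by rw [smul_smul, inv_mul_cancel₀ hne, one_smul]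
        rw [h2, h1, smul_neg, smul_smul, neg_mul, neg_smul]
      rw [this]
      exact Submodule.smul_mem _ _ (Submodule.mem_span_singleton_self x)
    refine ⟨?_, hz2⟩
    rw [hz2, zero_smul, add_zero] at hz
    exact (smul_eq_zero.mp hz).resolve_right hx0
  set α := QuadraticMap.polar Q x y with hα
  set γ := Q y with hγ
  have hαγ : Aniso α γ := by
    intro z₁ z₂ hz
    apply hli
    apply haniso
    rw [quad_two, hx, ← hα, ← hγ]
    linear_combination hz
  obtain ⟨s, u, hu, h1, h2⟩ := aniso_field a c α γ hac hαγ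
  set y' := s • x + u • y with hy'
  have hQy' : Q y' = c := by
    rw [hy', quad_two, hx, ← hα, ← hγ]
    linear_combination h2
  have hpol : QuadraticMap.polar Q x y' = a := by
    rw [hy', QuadraticMap.polar_add_right, QuadraticMap.polar_smul_right,
      QuadraticMap.polar_smul_right, QuadraticMap.polar_self, hx, ← hα]
    simp only [smul_eq_mul, nsmul_eq_mul, Nat.cast_ofNat, mul_one]
    linear_combination h1
  have hli' : LinearIndependent F ![x, y'] := by
    rw [LinearIndependent.pair_iff]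
    intro z₁ z₂ hz
    have hz' : (z₁ + z₂ * s) • x + (z₂ * u) • y = 0 := by
      rw [← hz, hy', smul_add, smul_smul, smul_smul, add_smul, add_assoc]
    obtain ⟨e1, e2⟩ := hli _ _ hz'
    have hz2 : z₂ = 0 := (mul_eq_zero.mp e2).resolve_right hu
    rw [hz2, zero_mul, add_zero] at e1
    exact ⟨e1, hz2⟩
  let b : Module.Basis (Fin 2) F V := basisOfLinearIndependentOfCardEqFinrank hli'
    (by rw [Fintype.card_fin, hdim])
  have hb0 : b 0 = x := by
    show (basisOfLinearIndependentOfCardEqFinrank hli' _) 0 = x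
    rw [coe_basisOfLinearIndependentOfCardEqFinrank]
    rfl
  have hb1 : b 1 = y' := by
    show (basisOfLinearIndependentOfCardEqFinrank hli' _) 1 = y'
    rw [coe_basisOfLinearIndependentOfCardEqFinrank]
    rfl
  let e : (Fin 0 ⊕ Fin 0) ⊕ Fin 2 ≃ Fin 2 := Equiv.emptySum (Fin 0 ⊕ Fin 0) (Fin 2)
  let φ : V ≃ₗ[F] ((Fin 0 ⊕ Fin 0) ⊕ Fin 2 → F) :=
    b.equivFun.trans (LinearEquiv.funCongrLeft F F e)
  refine ⟨φ, fun v => ?_⟩
  have hφ : ∀ j : Fin 2, φ v (Sum.inr j) = b.repr v j := fun j => rfl
  have hv : v = b.repr v 0 • x + b.repr v 1 • y' := by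
    conv_lhs => rw [← b.sum_repr v]
    rw [Fin.sum_univ_two, hb0, hb1]
  unfold Cfsg.quadFormMinus
  rw [hφ 0, hφ 1]
  conv_rhs => rw [hv, quad_two, hx, hpol, hQy']
  simp only [Finset.univ_eq_empty, Finset.sum_empty]
  ring

end Cfsg.Agent.Lib.Helper8.OCls
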